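import Mathlib

set_option autoImplicit false

/-! Ladder FLQ (statement S2861): the uniqueness property `UQ`. -/

namespace Cfsg.Agent.Lib.Helper7.FLQ

/-- `T` is the only nontrivial elementary abelian `p`-subgroup of `N_X(T)` that is normal in
`N_X(T)`. -/
def UQ (p : ℕ) {X : Type*} [Group X] (T : Subgroup X) : Prop :=
  ∀ V : Subgroup X, V ≤ Subgroup.normalizer (T : Set X) →
    (∀ n ∈ Subgroup.normalizer (T : Set X), ∀ v ∈ V, n * v * n⁻¹ ∈ V) →
    (∀ a ∈ V, ∀ b ∈ V, a * b = b * a) → (∀ v ∈ V, v ^ p = 1) → V ≠ ⊥ → V = T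

theorem mem_normalizer_map_equiv {X X' : Type*} [Group X] [Group X'] (e : X ≃* X')
    (T : Subgroup X) (x : X) :
    e x ∈ Subgroup.normalizer ((T.map e.toMonoidHom : Subgroup X') : Set X') ↔
      x ∈ Subgroup.normalizer (T : Set X) := by
  rw [Subgroup.mem_normalizer_iff, Subgroup.mem_normalizer_iff]
  constructor
  · intro h y
    have h1 := h (e y)
    have a1 : e y ∈ T.map e.toMonoidHom ↔ y ∈ T := by
      constructor
      · rintro ⟨z, hz, hzy⟩
        have : z = y := e.injective hzy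
        rwa [← this]
      · intro hy
        exact ⟨y, hy, rfl⟩
    have a2 : e x * e y * (e x)⁻¹ ∈ T.map e.toMonoidHom ↔ x * y * x⁻¹ ∈ T := by
      constructor
      · rintro ⟨z, hz, hzy⟩
        have : z = x * y * x⁻¹ := e.injective (by
          rw [map_mul, map_mul, map_inv]; exact hzy)
        rwa [← this]
      · intro hy
        exact ⟨_, hy, by simp⟩
    rw [← a1, ← a2]
    exact h1
  · intro h y'
    obtain ⟨y, rfl⟩ := e.surjective y'
    have a1 : e y ∈ T.map e.toMonoidHom ↔ y ∈ T := by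
      constructor
      · rintro ⟨z, hz, hzy⟩
        have : z = y := e.injective hzy
        rwa [← this]
      · intro hy
        exact ⟨y, hy, rfl⟩
    have a2 : e x * e y * (e x)⁻¹ ∈ T.map e.toMonoidHom ↔ x * y * x⁻¹ ∈ T := by
      constructor
      · rintro ⟨z, hz, hzy⟩
        have : z = x * y * x⁻¹ := e.injective (by
          rw [map_mul, map_mul, map_inv]; exact hzy)
        rwa [← this]
      · intro hy
        exact ⟨_, hy, by simp⟩
    rw [a1, a2]
    exact h y

theorem UQ.of_equiv {p : ℕ} {X X' : Type*} [Group X] [Group X'] (e : X ≃* X') {T : Subgroup X}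
    (h : UQ p (T.map e.toMonoidHom)) : UQ p T := by
  intro V hV hn hc hp hne
  have key := h (V.map e.toMonoidHom) ?_ ?_ ?_ ?_ ?_
  · exact Subgroup.map_injective e.injective key
  · rintro _ ⟨v, hv, rfl⟩
    exact (mem_normalizer_map_equiv e T v).2 (hV hv)
  · rintro n' hn' _ ⟨v, hv, rfl⟩
    obtain ⟨n, rfl⟩ := e.surjective n'
    exact ⟨n * v * n⁻¹, hn n ((mem_normalizer_map_equiv e T n).1 hn') v hv, by simp⟩
  · rintro _ ⟨a, ha, rfl⟩ _ ⟨b, hb, rfl⟩
    show e a * e b = e b * e a
    rw [← map_mul, ← map_mul, hc a ha b hb]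
  · rintro _ ⟨v, hv, rfl⟩
    show e v ^ p = 1
    rw [← map_pow, hp v hv, map_one]
  · intro hb
    apply hne
    exact (Subgroup.map_eq_bot_iff_of_injective V e.injective).1 hb

end Cfsg.Agent.Lib.Helper7.FLQ
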