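import Mathlib
import Cfsg.Agent.Lib.Helper7.FLQ.DEF
import Cfsg.Agent.Lib.Helper37.FrakL

set_option autoImplicit false

namespace Cfsg.Agent.Lib.Helper7.FLQ

open Cfsg.Agent.Lib.Helper37

theorem normalizer_map_le {H : Type*} [Group H] {Y A : Subgroup H} (h : FL Y A) [hn : A.Normal] :
    Subgroup.normalizer ((Y.map (QuotientGroup.mk' A) : Subgroup (H ⧸ A)) : Set (H ⧸ A)) ≤
      (Subgroup.normalizer (Y : Set H)).map (QuotientGroup.mk' A) := by
  intro x hx
  obtain ⟨g, rfl⟩ := QuotientGroup.mk'_surjective A x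
  refine ⟨g, ?_, rfl⟩
  set W := (Y.map (QuotientGroup.mk' A)).comap (QuotientGroup.mk' A) with hW
  have hYW : Y ≤ W := Subgroup.le_comap_map _ _
  have hgW : g ∈ Subgroup.normalizer (W : Set H) := by
    rw [Subgroup.mem_normalizer_iff] at hx ⊢
    intro y
    rw [hW, Subgroup.mem_comap, Subgroup.mem_comap, map_mul, map_mul, map_inv]
    exact hx _
  by_cases htop : Subgroup.normalizer (W : Set H) = ⊤
  · exfalso
    have hWn : W.Normal := Subgroup.normalizer_eq_top_iff.1 htop
    have hWtop := h.gen W hWn hYW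
    apply h.ne
    rw [eq_top_iff, ← hWtop]
    intro w hw
    obtain ⟨y, hy, hyw⟩ := hw
    have h1 : y⁻¹ * w ∈ A := QuotientGroup.eq.1 hyw
    have h2 : w = y * (y⁻¹ * w) := by group
    rw [h2]
    exact mul_mem (Subgroup.le_normalizer hy) (h.nrm h1)
  · exact h.mx _ (hYW.trans Subgroup.le_normalizer) htop hgW

end Cfsg.Agent.Lib.Helper7.FLQ
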