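import Mathlib
import Cfsg.Agent.Lib.Helper7.FLQ.DEF
import Cfsg.Agent.Lib.Helper37.FrakLSL2

set_option autoImplicit false

namespace Cfsg.Agent.Lib.Helper7.FLQ

open Cfsg Matrix Cfsg.Agent.Lib.Helper46 Cfsg.Agent.Lib.Helper7

theorem two_squares {F : Type*} [Field F] [Fintype F] (x : F) : ∃ a b : F, a ^ 2 + b ^ 2 = x := by
  rcases Nat.even_or_odd (Fintype.card F) with he | ho
  · have h2 : ringChar F = 2 := FiniteField.even_card_iff_char_two.2 (Nat.even_iff.1 he)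
    obtain ⟨a, ha⟩ := FiniteField.isSquare_of_char_two h2 x
    exact ⟨a, 0, by rw [ha]; ring⟩
  · open Polynomial in
    obtain ⟨a, b, hab⟩ : ∃ a b, (X ^ 2 : F[X]).eval a + (X ^ 2 - C x : F[X]).eval b = 0 :=
      FiniteField.exists_root_sum_quadratic (degree_X_pow 2) (degree_X_pow_sub_C (by decide) _)
        (Nat.odd_iff.mp ho)
    refine ⟨a, b, ?_⟩
    rw [← sub_eq_zero]
    simpa only [Polynomial.eval_C, Polynomial.eval_X, Polynomial.eval_pow, Polynomial.eval_sub,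
      ← add_sub_assoc] using hab

theorem dd_conj_uu {F : Type*} [Field F] (a : Fˣ) (x : F) :
    dd a * uu x * (dd a)⁻¹ = uu ((a : F) ^ 2 * x) := by
  rw [mul_inv_eq_iff_eq_mul]
  apply ext2 <;> simp [dd, uu, mul_00, mul_01, mul_10, mul_11]
  field_simp

theorem mem_USL' {F : Type*} [Field F] {g : SpecialLinearGroup (Fin 2) F} :
    g ∈ USL F ↔ ∃ b : F, g = uu b := by
  rw [mem_USL]
  constructor
  · rintro ⟨b, rfl⟩; exact ⟨b, rfl⟩
  · rintro ⟨b, rfl⟩; exact ⟨b, rfl⟩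

theorem entry_of_normalizer {F : Type*} [Field F] {n : SpecialLinearGroup (Fin 2) F}
    (hn : n ∈ Subgroup.normalizer ((USL F : Subgroup _) : Set (SpecialLinearGroup (Fin 2) F))) :
    (n : Matrix (Fin 2) (Fin 2) F) 1 0 = 0 := by
  have h1 := (Subgroup.mem_normalizer_iff.1 hn (uu 1)).1 (mem_USL'.2 ⟨1, rfl⟩)
  obtain ⟨b, hb⟩ := mem_USL'.1 h1
  rw [mul_inv_eq_iff_eq_mul] at hb
  have e10 := congrArg (fun Z : SpecialLinearGroup (Fin 2) F => (Z : Matrix (Fin 2) (Fin 2) F) 1 1) hb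
  simp only [mul_11, uu, mk2_01, mk2_10, mk2_11] at e10
  linear_combination e10

theorem uq_USL {F : Type*} [Field F] [Fintype F] {p : ℕ} [Fact p.Prime] [CharP F p] :
    UQ p (USL F) := by
  intro V hV hn hc hp hne
  have hVU : V ≤ USL F := by
    intro v hv
    have h10 := entry_of_normalizer (hV hv)
    have htr : tr v = 2 :=
      Cfsg.Agent.Lib.Helper14.trace_eq_two_of_pow_char_pow_eq_one p v (n := 1)
        (by rw [pow_one]; exact hp v hv)
    exact mem_USL'.2 ⟨_, eq_uu_of_tr htr h10⟩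
  apply le_antisymm hVU
  obtain ⟨v, hv, hv1⟩ : ∃ v ∈ V, v ≠ 1 := by
    by_contra hcon
    push Not at hcon
    exact hne ((Subgroup.eq_bot_iff_forall V).2 hcon)
  obtain ⟨x, rfl⟩ := mem_USL'.1 (hVU hv)
  have hx : x ≠ 0 := by
    rintro rfl
    exact hv1 uu_zero
  have hdn : ∀ a : Fˣ, dd a ∈ Subgroup.normalizer ((USL F : Subgroup _) :
      Set (SpecialLinearGroup (Fin 2) F)) := by
    intro a
    rw [Subgroup.mem_normalizer_iff]
    intro h
    constructor
    · intro hh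
      obtain ⟨b, rfl⟩ := mem_USL'.1 hh
      exact mem_USL'.2 ⟨_, dd_conj_uu a b⟩
    · intro hh
      obtain ⟨b, hb⟩ := mem_USL'.1 hh
      have h2 : h = (dd a)⁻¹ * uu b * dd a := by rw [← hb]; group
      have h3 : (dd a)⁻¹ = dd a⁻¹ := by
        rw [inv_eq_iff_mul_eq_one, ← dd_mul, mul_inv_cancel, dd_one]
      have h4 : dd a = (dd a⁻¹)⁻¹ := by rw [← h3, inv_inv]
      have h5 : h = dd a⁻¹ * uu b * (dd a⁻¹)⁻¹ := by rw [h2, h3, ← h4]
      rw [h5]
      exact mem_USL'.2 ⟨_, dd_conj_uu a⁻¹ b⟩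
  have hsq : ∀ a : F, uu (a ^ 2 * x) ∈ V := by
    intro a
    by_cases ha : a = 0
    · subst ha
      rw [zero_pow two_ne_zero, zero_mul, uu_zero]
      exact V.one_mem
    · have := hn (dd (Units.mk0 a ha)) (hdn _) _ hv
      rwa [dd_conj_uu] at this
  intro u hu
  obtain ⟨y, rfl⟩ := mem_USL'.1 hu
  obtain ⟨a, b, hab⟩ := two_squares (y / x)
  have : uu y = uu (a ^ 2 * x) * uu (b ^ 2 * x) := by
    rw [uu_mul, ← add_mul, hab, div_mul_cancel₀ _ hx]
  rw [this]
  exact V.mul_mem (hsq a) (hsq b)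

theorem uq_SL2 {F : Type*} [Field F] [Fintype F] {p : ℕ} [Fact p.Prime] [CharP F p]
    (T : Subgroup (SpecialLinearGroup (Fin 2) F)) (hT : Nat.card T = Fintype.card F) :
    UQ p T := by
  obtain ⟨k, hp, hk⟩ := FiniteField.card F p
  have hTp : IsPGroup p T := IsPGroup.of_card (n := k) (by rw [hT, hk])
  obtain ⟨P, hP⟩ := hTp.exists_le_sylow
  have hTP : T = (P : Subgroup _) :=
    Subgroup.eq_of_le_of_card_ge hP (by rw [hT]; exact (card_sylow_SL2 p P).le)
  have hUp : IsPGroup p (USL F) := IsPGroup.of_card (n := k) (by rw [card_USL, hk])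
  obtain ⟨P', hP'⟩ := hUp.exists_le_sylow
  have hUP : USL F = (P' : Subgroup _) :=
    Subgroup.eq_of_le_of_card_ge hP' (by rw [card_USL]; exact (card_sylow_SL2 p P').le)
  obtain ⟨g, hg⟩ := MulAction.exists_smul_eq (SpecialLinearGroup (Fin 2) F) P P'
  apply UQ.of_equiv (MulAut.conj g)
  have h1 : T.map (MulAut.conj g).toMonoidHom = USL F := by
    rw [hTP, hUP, ← hg]
    rfl
  rw [h1]
  exact uq_USL

end Cfsg.Agent.Lib.Helper7.FLQ
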