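import Mathlib
import Cfsg.Agent.Lib.Helper7.FLQ.DEF
import Cfsg.Agent.Lib.Helper37.FrakLSz

set_option autoImplicit false

namespace Cfsg.Agent.Lib.Helper7.FLQ

open Cfsg Cfsg.Agent.Lib.Helper8 Cfsg.Agent.Lib.Helper37
open Cfsg.Agent.Lib.Helper53 (mem_cj cj_mem cj_cj cj_one normalizer_cj card_cj)

local notation "cj(" g ", " Q ")" => Subgroup.map (MulEquiv.toMonoidHom (MulAut.conj g)) Q

theorem uq_ZS {F : Type*} [Field F] [CharP F 2] [Fintype F] {m : ℕ}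
    (hF : Fintype.card F = 2 ^ (2 * m + 1)) (hm : 1 ≤ m) : UQ 2 (ZS hF) := by
  intro V hV hn hc hp hne
  have hVZ : V ≤ ZS hF := by
    intro v hv
    exact sz_mem_ZS_of_normalizes hF hm (by rw [← sq]; exact hp v hv) (hV hv)
  apply le_antisymm hVZ
  obtain ⟨v, hv, hv1⟩ : ∃ v ∈ V, v ≠ 1 := by
    by_contra hcon
    push Not at hcon
    exact hne ((Subgroup.eq_bot_iff_forall V).2 hcon)
  obtain ⟨b, rfl⟩ := (mem_ZS hF).1 (hVZ hv)
  have hb : b ≠ 0 := by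
    rintro rfl
    exact hv1 (tG_zero hF)
  have hdn : ∀ k : Fˣ, dG hF k ∈ Subgroup.normalizer ((ZS hF : Subgroup _) :
      Set (Cfsg.Sz F m)) := by
    intro k
    rw [Subgroup.mem_normalizer_iff]
    intro h
    constructor
    · intro hh
      obtain ⟨c, rfl⟩ := (mem_ZS hF).1 hh
      rw [dG_conj_tG, mul_zero]
      exact (mem_ZS hF).2 ⟨_, rfl⟩
    · intro hh
      obtain ⟨c, hc'⟩ := (mem_ZS hF).1 hh
      have h2 : h = dG hF k⁻¹ * tG hF 0 c * (dG hF k⁻¹)⁻¹ := by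
        rw [← hc', ← dG_inv]; group
      rw [h2, dG_conj_tG, mul_zero]
      exact (mem_ZS hF).2 ⟨_, rfl⟩
  intro u hu
  obtain ⟨c, rfl⟩ := (mem_ZS hF).1 hu
  by_cases hc0 : c = 0
  · subst hc0
    rw [tG_zero]
    exact V.one_mem
  · obtain ⟨k, hk⟩ := unit_th_surj hF (Units.mk0 (c / b) (div_ne_zero hc0 hb))
    have := hn (dG hF k) (hdn k) _ hv
    rw [dG_conj_tG, hk, mul_zero, Units.val_mk0, div_mul_cancel₀ _ hb] at this
    exact this

theorem uq_Sz {F : Type*} [Field F] [CharP F 2] [Fintype F] {m : ℕ}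
    (hF : Fintype.card F = 2 ^ (2 * m + 1)) (hm : 1 ≤ m)
    (T : Subgroup (Cfsg.Sz F m)) (hc : Nat.card T = 2 ^ (2 * m + 1))
    (h2 : ∀ z ∈ T, z * z = 1) : UQ 2 T := by
  have hcomm : ∀ z ∈ T, ∀ w ∈ T, z * w = w * z := by
    intro z hz w hw
    have h := h2 _ (T.mul_mem hz hw)
    have hzi : z⁻¹ = z := inv_eq_of_mul_eq_one_left (h2 z hz)
    have hwi : w⁻¹ = w := inv_eq_of_mul_eq_one_left (h2 w hw)
    have : z * w = (z * w)⁻¹ := (inv_eq_of_mul_eq_one_left h).symm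
    rw [this, mul_inv_rev, hzi, hwi]
  have hnt : ∃ t ∈ T, t ≠ 1 := by
    by_contra hcon
    push Not at hcon
    have : T = ⊥ := (Subgroup.eq_bot_iff_forall T).2 hcon
    rw [this, Subgroup.card_bot] at hc
    have : 1 < 2 ^ (2 * m + 1) := Nat.one_lt_two_pow (by omega)
    omega
  obtain ⟨t, htT, ht1⟩ := hnt
  obtain ⟨x₀, b, hb, e⟩ := sz_inv_conj hF hm ht1 (h2 t htT)
  have hle : cj(x₀, T) ≤ ZS hF := by
    rintro _ ⟨z, hz, rfl⟩
    show x₀ * z * x₀⁻¹ ∈ ZS hF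
    apply sz_mem_ZS_of_comm hF hm _ hb
    · rw [← e]
      calc x₀ * z * x₀⁻¹ * (x₀ * t * x₀⁻¹) = x₀ * (z * t) * x₀⁻¹ := by group
        _ = x₀ * (t * z) * x₀⁻¹ := by rw [hcomm z hz t htT]
        _ = _ := by group
    · calc x₀ * z * x₀⁻¹ * (x₀ * z * x₀⁻¹) = x₀ * (z * z) * x₀⁻¹ := by group
        _ = 1 := by rw [h2 z hz]; group
  have heq : cj(x₀, T) = ZS hF :=
    Subgroup.eq_of_le_of_card_ge hle (by rw [card_ZS, card_cj, hc])
  apply UQ.of_equiv (MulAut.conj x₀)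
  rw [heq]
  exact uq_ZS hF hm

end Cfsg.Agent.Lib.Helper7.FLQ
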