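import Mathlib
import Cfsg.Agent.Lib.Helper7.FLQ.DEF
import Cfsg.Agent.Lib.Helper37.FrakLR

set_option autoImplicit false

namespace Cfsg.Agent.Lib.Helper7.FLQ

local notation "cj(" g ", " Q ")" => Subgroup.map (MulEquiv.toMonoidHom (MulAut.conj g)) Q

theorem uq_two {X : Type*} [Group X] (T : Subgroup X) (hT : Nat.card T = 2) (g : X)
    (htop : T ⊔ T.map (MulAut.conj g).toMonoidHom = ⊤)
    (hO : ∀ c ∈ Subgroup.center X, c ^ 2 = 1 → c = 1) : UQ 2 T := by
  obtain ⟨⟨t, htT⟩, ht1, htu⟩ := (Nat.card_eq_two_iff' (1 : T)).1 hT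
  have ht1' : t ≠ 1 := fun h => ht1 (Subtype.ext h)
  have hel : ∀ z ∈ T, z = 1 ∨ z = t := by
    intro z hz
    by_cases h : z = 1
    · exact Or.inl h
    · right
      have := htu ⟨z, hz⟩ (fun h' => h (congrArg Subtype.val h'))
      exact congrArg Subtype.val this
  have htt : t * t = 1 := by
    rcases hel _ (T.mul_mem htT htT) with h | h
    · exact h
    · exact absurd (by simpa using h) ht1'
  have htinv : t⁻¹ = t := inv_eq_of_mul_eq_one_left htt
  have helc : ∀ k z : X, z ∈ cj(k, T) → z = 1 ∨ z = k * t * k⁻¹ := by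
    rintro k _ ⟨z, hz, rfl⟩
    rcases hel z hz with rfl | rfl
    · left; simp
    · right; simp [MulAut.conj_apply]
  set s := g * t * g⁻¹ with hs
  have hss : s * s = 1 := by
    rw [hs]
    calc g * t * g⁻¹ * (g * t * g⁻¹) = g * (t * t) * g⁻¹ := by group
      _ = 1 := by rw [htt]; group
  have hsinv : s⁻¹ = s := inv_eq_of_mul_eq_one_left hss
  set r := t * s with hr
  have hrinv : t * r * t⁻¹ = r⁻¹ := by
    rw [hr, mul_inv_rev, hsinv, htinv, ← mul_assoc, htt, one_mul]
  have hrz : ∀ i : ℤ, t * r ^ i * t⁻¹ = (r ^ i)⁻¹ := by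
    intro i
    rw [← conj_zpow, hrinv, inv_zpow]
  have hcl : (⊤ : Subgroup X) ≤ Subgroup.closure ({t, s} : Set X) := by
    rw [← htop]
    apply sup_le
    · intro z hz
      rcases hel z hz with rfl | rfl
      · exact Subgroup.one_mem _
      · exact Subgroup.subset_closure (by simp)
    · intro z hz
      rcases helc g z hz with rfl | rfl
      · exact Subgroup.one_mem _
      · exact Subgroup.subset_closure (by simp [hs])
  have hP : ∀ x : X, ∃ i : ℤ, x = r ^ i ∨ x = r ^ i * t := by
    intro x
    have hx : x ∈ Subgroup.closure ({t, s} : Set X) := hcl (Subgroup.mem_top x)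
    have step : ∀ x : X, (∃ i : ℤ, x = r ^ i ∨ x = r ^ i * t) → ∀ y ∈ ({t, s} : Set X),
        ∃ i : ℤ, x * y = r ^ i ∨ x * y = r ^ i * t := by
      rintro _ ⟨i, rfl | rfl⟩ y hy
      · rcases hy with rfl | hy
        · exact ⟨i, Or.inr rfl⟩
        · rw [Set.mem_singleton_iff] at hy
          subst hy
          refine ⟨i - 1, Or.inr ?_⟩
          have e : s = r⁻¹ * t := by
            rw [hr, mul_inv_rev, hsinv, htinv, mul_assoc, htt, mul_one]
          rw [zpow_sub, zpow_one, mul_assoc, ← e]
      · rcases hy with rfl | hy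
        · exact ⟨i, Or.inl (by rw [mul_assoc, htt, mul_one])⟩
        · rw [Set.mem_singleton_iff] at hy
          subst hy
          exact ⟨i + 1, Or.inl (by rw [zpow_add, zpow_one, mul_assoc])⟩
    induction hx using Subgroup.closure_induction_right with
    | one => exact ⟨0, Or.inl (by simp)⟩
    | mul_right x _ y hy ih => exact step x ih y hy
    | mul_inv_cancel x _ y hy ih =>
      have : y⁻¹ = y := by
        rcases hy with rfl | hy
        · exact htinv
        · rw [Set.mem_singleton_iff] at hy
          rw [hy]; exact hsinv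
      rw [this]
      exact step x ih y hy
  have hclaim : ∀ i : ℤ, r ^ i * t = t * r ^ i → r ^ i = 1 := by
    intro i hi
    have h1 := hrz i
    have h2 : t * r ^ i * t⁻¹ = r ^ i := by rw [← hi, mul_inv_cancel_right]
    have h3 : (r ^ i) ^ 2 = 1 := by
      rw [sq]
      nth_rewrite 1 [← h2]
      rw [h1, inv_mul_cancel]
    apply hO _ _ h3
    rw [Subgroup.mem_center_iff]
    intro x
    obtain ⟨j, rfl | rfl⟩ := hP x
    · rw [← zpow_add, ← zpow_add, add_comm]
    · rw [mul_assoc, ← hi, ← mul_assoc, ← mul_assoc, ← zpow_add, ← zpow_add, add_comm]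
  intro V hV hn hc hp hne
  have hVT : V ≤ T := by
    intro v hv
    have h1 := (Subgroup.mem_normalizer_iff.1 (hV hv) t).1 htT
    have h2 : v * t = t * v := by
      rcases hel _ h1 with h | h
      · exfalso
        apply ht1'
        have : t = v⁻¹ * (v * t * v⁻¹) * v := by group
        rw [this, h]; group
      · calc v * t = (v * t * v⁻¹) * v := by group
          _ = t * v := by rw [h]
    obtain ⟨i, rfl | rfl⟩ := hP v
    · rw [hclaim i h2]
      exact T.one_mem
    · have h3 : r ^ i * t = t * r ^ i := by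
        have h4 : r ^ i * t * t = t * (r ^ i * t) := h2
        rw [mul_assoc, htt, mul_one] at h4
        calc r ^ i * t = t * (r ^ i * t) * t := by rw [← h4]
          _ = t * r ^ i * (t * t) := by group
          _ = t * r ^ i := by rw [htt, mul_one]
      rw [hclaim i h3, one_mul]
      exact htT
  apply le_antisymm hVT
  obtain ⟨v, hv, hv1⟩ : ∃ v ∈ V, v ≠ 1 := by
    by_contra hcon
    push Not at hcon
    exact hne ((Subgroup.eq_bot_iff_forall V).2 hcon)
  have hvt : v = t := by
    rcases hel v (hVT hv) with h | h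
    · exact absurd h hv1
    · exact h
  intro z hz
  rcases hel z hz with rfl | rfl
  · exact V.one_mem
  · rwa [← hvt]

end Cfsg.Agent.Lib.Helper7.FLQ
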