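import Mathlib
import Cfsg.Agent.Lib.Helper7.FLQ.SL2
import Cfsg.Agent.Lib.Helper7.FLQ.SZ
import Cfsg.Agent.Lib.Helper7.FLQ.TWO
import Cfsg.Agent.Lib.Helper37.FrakLMain
import Cfsg.Agent.Lib.Helper31.CNSolv

set_option autoImplicit false

namespace Cfsg.Agent.Lib.Helper7.FLQ

open Cfsg Cfsg.Agent.Lib.Helper53 Cfsg.Agent.Lib.Helper37

local notation "cj(" g ", " Q ")" => Subgroup.map (MulEquiv.toMonoidHom (MulAut.conj g)) Q

theorem pcq {H : Type*} [Group H] {p : ℕ} [Fact p.Prime] :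
    ∀ c ∈ Subgroup.center (H ⧸ pCore p H), c ^ p = 1 → c = 1 := by
  intro c hc hp
  have hn : (Subgroup.zpowers c).Normal := by
    constructor
    intro x hx g
    have : x ∈ Subgroup.center (H ⧸ pCore p H) :=
      (Subgroup.zpowers_le.2 hc) hx
    have h2 : g * x * g⁻¹ = x := by
      rw [(Subgroup.mem_center_iff.1 this g), mul_assoc, mul_inv_cancel, mul_one]
    rwa [h2]
  have hpg : IsPGroup p (Subgroup.zpowers c) :=
    isPGroup_zpowers_of_pow ⟨1, by rwa [pow_one]⟩
  have h1 := le_pCore hn hpg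
  rw [Cfsg.Agent.Lib.Helper31.pCore_quotient_pCore p] at h1
  exact (Subgroup.mem_bot.1 (h1 (Subgroup.mem_zpowers c)))

theorem frakL_UQ {G : Type*} [Group G] [Finite G] {p : ℕ} [Fact p.Prime] {M L : Subgroup G}
    (hL : IsInFrakL p M L) :
    UQ p (((largestPReducedOf p M).subgroupOf L).map (QuotientGroup.mk' (pCore p ↥L))) := by
  have hFL := frakL_FL hL
  obtain ⟨hYL, -, -, -, -, -, hiso⟩ := hL
  set Y := largestPReducedOf p M with hY
  have hel : IsElementaryAbelian p Y := (isPRed_largest p M).elemAb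
  set T := (Y.subgroupOf L).map (QuotientGroup.mk' (pCore p ↥L)) with hT
  have hcard : Nat.card T = (Y ⊓ pCoreOf p L).relIndex Y := by
    rw [hT, ← Subgroup.relIndex_ker, QuotientGroup.ker_mk', Subgroup.inf_relIndex_left,
      pCore_eq_subgroupOf, Subgroup.relIndex_subgroupOf hYL]
  have hTp : IsPGroup p T := ((elemAb_isPGroup hel).comap_subtype).map _
  have hTne : T ≠ ⊥ := by
    intro h
    have h1 : Y.subgroupOf L ≤ pCore p ↥L := by
      have := (Subgroup.map_eq_bot_iff _).1 h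
      rwa [QuotientGroup.ker_mk'] at this
    have h2 := hFL.gen _ hFL.nA h1
    apply hFL.ne
    rw [eq_top_iff, ← h2]
    exact hFL.nrm
  have hgen : ∃ g, T ⊔ cj(g, T) = ⊤ := by
    obtain ⟨g, hg⟩ := hFL.exists_not_mem
    refine ⟨QuotientGroup.mk' (pCore p ↥L) g, ?_⟩
    have h1 := congrArg (Subgroup.map (QuotientGroup.mk' (pCore p ↥L))) (hFL.gen_two hg)
    rw [Subgroup.map_sup, map_cj',
      Subgroup.map_top_of_surjective _ (QuotientGroup.mk'_surjective _)] at h1
    exact h1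
  have hpow : ∀ z ∈ T, z ^ p = 1 := by
    rintro _ ⟨y, hy, rfl⟩
    rw [← map_pow]
    have : y ^ p = 1 := by
      apply Subtype.ext
      have := (elemAb_iff.1 hel).2 _ (Subgroup.mem_subgroupOf.1 hy)
      simpa using this
    rw [this, map_one]
  rcases hiso with ⟨F, _, _, hFc, ⟨e⟩⟩ | ⟨hp2, F, _, _, m, hF, hFc, ⟨e⟩⟩ | ⟨hp2, r, hr, hr2, ⟨e⟩⟩
  · obtain ⟨k, hk⟩ := hTp.exists_card_eq
    have : CharP F p := charP_of_card_pow (n := k) (by rw [hFc, ← hcard, hk])
    apply UQ.of_equiv e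
    apply uq_SL2
    rw [Subgroup.card_map_of_injective e.injective, hcard, hFc]
  · subst hp2
    by_cases hm : m = 0
    · subst hm
      obtain ⟨g, hg⟩ := hgen
      exact uq_two T (by rw [hcard, ← hFc, hF]; norm_num) g hg pcq
    · have hm1 : 1 ≤ m := by omega
      have : CharP F 2 := Cfsg.Agent.Lib.Helper8.charP_two_of_card hF
      apply UQ.of_equiv (e.trans (Cfsg.Agent.Lib.Helper8.lieSzEquiv hF hm1).symm)
      apply uq_Sz hF hm1
      · rw [Subgroup.card_map_of_injective (MulEquiv.injective _), hcard, ← hFc, hF]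
      · rintro _ ⟨z, hz, rfl⟩
        have := hpow z hz
        rw [sq] at this
        rw [← map_mul, this, map_one]
  · subst hp2
    obtain ⟨g, hg⟩ := hgen
    refine uq_two T ?_ g hg pcq
    obtain ⟨k, hk⟩ := hTp.exists_card_eq
    have h1 : Nat.card T ∣ 2 * r := by
      have := Subgroup.card_subgroup_dvd_card T
      rwa [Nat.card_congr e.toEquiv, DihedralGroup.nat_card] at this
    have h2 : k ≠ 0 := by
      rintro rfl
      apply hTne
      rw [pow_zero] at hk
      exact Subgroup.card_eq_one.1 hk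
    have h3 : k < 2 := by
      by_contra hcon
      have h4 : 2 ^ 2 ∣ 2 * r := (pow_dvd_pow 2 (by omega : 2 ≤ k)).trans (hk ▸ h1)
      have h5 : 2 ∣ r := by
        obtain ⟨c, hc⟩ := h4
        exact ⟨c, by omega⟩
      exact hr2 ((Nat.prime_dvd_prime_iff_eq Nat.prime_two hr).1 h5).symm
    have : k = 1 := by omega
    rw [hk, this, pow_one]

theorem frakL_T_ne_bot {G : Type*} [Group G] [Finite G] {p : ℕ} [Fact p.Prime] {M L : Subgroup G}
    (hL : IsInFrakL p M L) :
    ((largestPReducedOf p M).subgroupOf L).map (QuotientGroup.mk' (pCore p ↥L)) ≠ ⊥ := by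
  have hFL := frakL_FL hL
  intro h
  have h1 : (largestPReducedOf p M).subgroupOf L ≤ pCore p ↥L := by
    have := (Subgroup.map_eq_bot_iff _).1 h
    rwa [QuotientGroup.ker_mk'] at this
  have h2 := hFL.gen _ hFL.nA h1
  apply hFL.ne
  rw [eq_top_iff, ← h2]
  exact hFL.nrm

end Cfsg.Agent.Lib.Helper7.FLQ
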