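import Mathlib
import Cfsg.Agent.Lib.Helper7.FLQ.UQM
import Cfsg.Agent.Lib.Helper7.FLQ.NRM

set_option autoImplicit false

namespace Cfsg.Agent.Lib.Helper7.FLQ

open Cfsg Cfsg.Agent.Lib.Helper53 Cfsg.Agent.Lib.Helper37

theorem main {G : Type*} [Group G] [Finite G] {p : ℕ} [Fact p.Prime] (M L : Subgroup G)
    (hL : Cfsg.IsInFrakL p M L) (NL : Subgroup G)
    (hNL : NL = L ⊓ Subgroup.normalizer (((Cfsg.largestPReducedOf p M) : Subgroup G) : Set G))
    [hn : (((Cfsg.pCoreOf p L)).subgroupOf NL).Normal] :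
    let Ybar : Subgroup (↥NL ⧸ ((Cfsg.pCoreOf p L)).subgroupOf NL) :=
      (((Cfsg.largestPReducedOf p M)).subgroupOf NL).map
        (QuotientGroup.mk' (((Cfsg.pCoreOf p L)).subgroupOf NL));
    Ybar ≠ ⊥ ∧ Ybar.Normal ∧ Cfsg.IsElementaryAbelian p Ybar ∧
      ∀ (V : Subgroup (↥NL ⧸ ((Cfsg.pCoreOf p L)).subgroupOf NL)), V.Normal →
        Cfsg.IsElementaryAbelian p V → V ≠ ⊥ → V = Ybar := by
  intro Ybar
  have hFL := frakL_FL hL
  have hUQ := frakL_UQ hL
  have hTne := frakL_T_ne_bot hL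
  have hYL : largestPReducedOf p M ≤ L := hL.1
  set Y := largestPReducedOf p M with hY
  have hel : IsElementaryAbelian p Y := (isPRed_largest p M).elemAb
  have hNLL : NL ≤ L := by rw [hNL]; exact inf_le_left
  have hNLN : NL ≤ Subgroup.normalizer (Y : Set G) := by rw [hNL]; exact inf_le_right
  have hYNL : Y ≤ NL := by
    rw [hNL]; exact le_inf hYL Subgroup.le_normalizer
  set K := (pCoreOf p L).subgroupOf NL with hK
  set π := QuotientGroup.mk' (pCore p ↥L) with hπ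
  set T := (Y.subgroupOf L).map π with hT
  set φ : ↥NL →* (↥L ⧸ pCore p ↥L) := π.comp (Subgroup.inclusion hNLL) with hφ
  have hker : ∀ x : ↥NL, φ x = 1 ↔ x ∈ K := by
    intro x
    rw [hφ, MonoidHom.comp_apply, hπ, QuotientGroup.mk'_apply, QuotientGroup.eq_one_iff,
      pCore_eq_subgroupOf, Subgroup.mem_subgroupOf, hK, Subgroup.mem_subgroupOf]
    rfl
  set ι : (↥NL ⧸ K) →* (↥L ⧸ pCore p ↥L) :=
    QuotientGroup.lift K φ (fun x hx => (hker x).2 hx) with hι
  have hιmk : ∀ x : ↥NL, ι (QuotientGroup.mk' K x) = φ x := fun x => rfl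
  have hinj : Function.Injective ι := by
    rw [injective_iff_map_eq_one]
    intro q hq
    obtain ⟨x, rfl⟩ := QuotientGroup.mk'_surjective K q
    rw [hιmk] at hq
    rw [QuotientGroup.mk'_apply, QuotientGroup.eq_one_iff]
    exact (hker x).1 hq
  have hYT : Ybar.map ι = T := by
    ext z
    constructor
    · rintro ⟨_, ⟨y, hy, rfl⟩, rfl⟩
      rw [hιmk]
      exact ⟨Subgroup.inclusion hNLL y, hy, rfl⟩
    · rintro ⟨y, hy, rfl⟩
      have hy' : (y : G) ∈ Y := hy
      exact ⟨_, ⟨⟨(y : G), hYNL hy'⟩, hy', rfl⟩, rfl⟩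
  have hYn : (Y.subgroupOf NL).Normal :=
    (Subgroup.normal_subgroupOf_iff_le_normalizer hYNL).2 hNLN
  have hYbn : Ybar.Normal := hYn.map _ (QuotientGroup.mk'_surjective K)
  refine ⟨?_, hYbn, ?_, ?_⟩
  · intro hb
    apply hTne
    rw [← hYT, hb, Subgroup.map_bot]
  · exact elemAb_map _ (elemAb_comap_of_injective NL.subtype NL.subtype_injective hel)
  · intro V hVn hVe hVne
    have hVe' := elemAb_iff.1 (elemAb_map ι hVe)
    have key := hUQ (V.map ι) ?_ ?_ ?_ hVe'.2 ?_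
    · apply Subgroup.map_injective hinj
      rw [key, hYT]
    · rintro _ ⟨v, hv, rfl⟩
      have h1 : ι v ∈ (Subgroup.normalizer (Ybar : Set (↥NL ⧸ K))).map ι :=
        ⟨v, by rw [Subgroup.normalizer_eq_top_iff.2 hYbn]; trivial, rfl⟩
      have h2 := Subgroup.le_normalizer_map ι h1
      rw [hYT] at h2
      exact h2
    · rintro n hn' _ ⟨v, hv, rfl⟩
      obtain ⟨h, hh, rfl⟩ := normalizer_map_le hFL hn'
      have hh' : (h : G) ∈ Subgroup.normalizer (Y : Set G) := by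
        rw [← Subgroup.subgroupOf_normalizer_eq hYL] at hh
        exact hh
      have hmem : (h : G) ∈ NL := by
        rw [hNL]; exact ⟨h.2, hh'⟩
      refine ⟨QuotientGroup.mk' K ⟨h, hmem⟩ * v * (QuotientGroup.mk' K ⟨h, hmem⟩)⁻¹,
        hVn.conj_mem v hv _, ?_⟩
      rw [map_mul, map_mul, map_inv, hιmk]
      rfl
    · intro a ha b hb
      exact (Subgroup.mem_centralizer_iff.1 (hVe'.1 hb) a ha)
    · intro hb
      exact hVne ((Subgroup.map_eq_bot_iff_of_injective V hinj).1 hb)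

end Cfsg.Agent.Lib.Helper7.FLQ
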